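import Mathlib.LinearAlgebra.ExteriorPower.Basic
import Mathlib.LinearAlgebra.ExteriorAlgebra.OfAlternating
import Mathlib.RingTheory.AdjoinRoot
import Mathlib.RingTheory.TensorProduct.Basic
import Mathlib.RingTheory.Kaehler.Basic
import Mathlib.Algebra.TrivSqZeroExt.Basic

/-!
# The trace of differential forms along a purely inseparable extension of degree `p`
-/

set_option autoImplicit false
universe u

open TensorProduct Polynomial

namespace GrothLib.FormTr

variable {Λ R : Type u} [CommRing Λ] [CommRing R] [Algebra Λ R] (a : R)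

/-- The left ideal generated by `da`. -/
noncomputable def L : Submodule R (ExteriorAlgebra R (Ω[R⁄Λ])) :=
  LinearMap.range (LinearMap.mulRight R (ExteriorAlgebra.ι R (KaehlerDifferential.D Λ R a)))

theorem mul_mem_L (e : ExteriorAlgebra R (Ω[R⁄Λ])) {x : ExteriorAlgebra R (Ω[R⁄Λ])} (hx : x ∈ L a) :
    e * x ∈ L a := by
  obtain ⟨w, rfl⟩ := hx
  exact ⟨e * w, (mul_assoc e w _)⟩

/-- Left multiplication on the left ideal generated by `da`. -/
noncomputable def mu : Ω[R⁄Λ] →ₗ[R] Module.End R (L (Λ := Λ) a) where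
  toFun v := (LinearMap.mulLeft R (ExteriorAlgebra.ι R v)).restrict fun _ hx => mul_mem_L a _ hx
  map_add' v w := LinearMap.ext fun x => Subtype.ext (by simp [add_mul])
  map_smul' r v := LinearMap.ext fun x => Subtype.ext (by simp)

theorem mu_apply (v : Ω[R⁄Λ]) (x : L (Λ := Λ) a) :
    (mu a v x : ExteriorAlgebra R (Ω[R⁄Λ])) = ExteriorAlgebra.ι R v * x := rfl

theorem mu_D : mu a (KaehlerDifferential.D Λ R a) = 0 := by
  ext ⟨x, w, rfl⟩
  show ExteriorAlgebra.ι R _ * (w * ExteriorAlgebra.ι R _) = 0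
  induction w using CliffordAlgebra.left_induction with
  | algebraMap r =>
    rw [← mul_assoc, ← Algebra.commutes, mul_assoc, ExteriorAlgebra.ι_sq_zero, mul_zero]
  | add x y hx hy => rw [add_mul, mul_add, hx, hy, add_zero]
  | ι_mul w v hw =>
    rw [mul_assoc, ← mul_assoc, eq_neg_of_add_eq_zero_left (ExteriorAlgebra.ι_add_mul_swap
      (KaehlerDifferential.D Λ R a) v), neg_mul, mul_assoc, hw, mul_zero, neg_zero]

theorem mu_add_swap (v w : Ω[R⁄Λ]) : mu a v * mu a w + mu a w * mu a v = 0 := by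
  refine LinearMap.ext fun x => Subtype.ext ?_
  simp only [LinearMap.add_apply, Module.End.mul_apply, Submodule.coe_add, mu_apply,
    LinearMap.zero_apply, ZeroMemClass.coe_zero]
  rw [← mul_assoc, ← mul_assoc, ← add_mul, ExteriorAlgebra.ι_add_mul_swap, zero_mul]

theorem mu_sq (v : Ω[R⁄Λ]) : mu a v * mu a v = 0 := by
  refine LinearMap.ext fun x => Subtype.ext ?_
  simp [mu_apply, ← mul_assoc]

variable (S : Type u) [CommRing S] [Algebra R S]

/-- The module acted on. -/
abbrev V := (S ⊗[R] L (Λ := Λ) a) × (S ⊗[R] L (Λ := Λ) a)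

/-- The base change of `mu`. -/
noncomputable def muS : (S ⊗[R] Ω[R⁄Λ]) →ₗ[S] Module.End S (S ⊗[R] L (Λ := Λ) a) :=
  LinearMap.liftBaseChange S ((LinearMap.baseChangeHom R S _ _).comp (mu a))

theorem muS_tmul (s : S) (v : Ω[R⁄Λ]) : muS a S (s ⊗ₜ v) = s • (mu a v).baseChange S := by
  simp [muS]

theorem muS_add_swap (m n : S ⊗[R] Ω[R⁄Λ]) : muS a S m * muS a S n + muS a S n * muS a S m = 0 := by
  induction m using TensorProduct.induction_on with
  | zero => simp
  | add x y hx hy =>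
    rw [map_add, add_mul, mul_add, add_add_add_comm, hx, hy, add_zero]
  | tmul s v =>
    induction n using TensorProduct.induction_on with
    | zero => simp
    | add x y hx hy =>
      rw [map_add, mul_add, add_mul, add_add_add_comm, hx, hy, add_zero]
    | tmul r w =>
      rw [muS_tmul, muS_tmul, smul_mul_smul_comm, smul_mul_smul_comm, mul_comm r s, ← smul_add]
      have := congr(LinearMap.baseChange S $(mu_add_swap a v w))
      rw [LinearMap.baseChange_add, LinearMap.baseChange_mul, LinearMap.baseChange_mul,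
        LinearMap.baseChange_zero] at this
      rw [this, smul_zero]

theorem muS_sq (m : S ⊗[R] Ω[R⁄Λ]) : muS a S m * muS a S m = 0 := by
  induction m using TensorProduct.induction_on with
  | zero => simp
  | tmul s v =>
    rw [muS_tmul, smul_mul_smul_comm, ← LinearMap.baseChange_mul, mu_sq, LinearMap.baseChange_zero,
      smul_zero]
  | add x y hx hy =>
    rw [map_add, add_mul, mul_add, mul_add, hx, hy, zero_add, add_zero, muS_add_swap]

/-- The operator attached to `η + s dx`. -/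
noncomputable def O : (S ⊗[R] Ω[R⁄Λ]) × S →ₗ[S] Module.End S (V (Λ := Λ) a S) where
  toFun m := LinearMap.prod (muS a S m.1 ∘ₗ LinearMap.fst S _ _)
    (-(muS a S m.1 ∘ₗ LinearMap.snd S _ _) + m.2 • LinearMap.fst S _ _)
  map_add' m n := LinearMap.ext fun x => Prod.ext (by simp) (by simp [add_smul]; abel)
  map_smul' r m := LinearMap.ext fun x => Prod.ext (by simp) (by simp [smul_smul])

theorem O_apply (m : (S ⊗[R] Ω[R⁄Λ]) × S) (x : V (Λ := Λ) a S) :
    O a S m x = (muS a S m.1 x.1, -(muS a S m.1 x.2) + m.2 • x.1) := rfl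

theorem O_sq (m : (S ⊗[R] Ω[R⁄Λ]) × S) : O a S m * O a S m = 0 := by
  refine LinearMap.ext fun x => ?_
  have h : ∀ y, muS a S m.1 (muS a S m.1 y) = 0 := fun y => congr($(muS_sq a S m.1) y)
  simp only [Module.End.mul_apply, O_apply, LinearMap.zero_apply]
  refine Prod.ext (h _) ?_
  simp [h]

end GrothLib.FormTr

namespace GrothLib.FormTr

/-- A derivation of `R[x]/(xᵖ - a)` from one of `R` killing `a` and a value at `x`. -/
theorem exists_derivation (p : ℕ) [hp : Fact p.Prime] {Λ R : Type u} [CommRing Λ] [CommRing R]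
    [Algebra Λ R] [CharP R p] (a : R) {W : Type u} [AddCommGroup W]
    [Module (AdjoinRoot (X ^ p - C a : R[X])) W] [Module Λ W]
    [IsScalarTower Λ (AdjoinRoot (X ^ p - C a : R[X])) W] (e : R →+ W)
    (he_mul : ∀ r r', e (r * r') = algebraMap R (AdjoinRoot (X ^ p - C a : R[X])) r • e r' +
      algebraMap R (AdjoinRoot (X ^ p - C a : R[X])) r' • e r)
    (heΛ : ∀ l : Λ, e (algebraMap Λ R l) = 0) (hea : e a = 0) (w : W) :
    ∃ δ : Derivation Λ (AdjoinRoot (X ^ p - C a : R[X])) W,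
      (∀ r : R, δ (algebraMap R _ r) = e r) ∧ δ (AdjoinRoot.root (X ^ p - C a)) = w := by
  let S₀ := AdjoinRoot (X ^ p - C a : R[X])
  letI : Module S₀ᵐᵒᵖ W := Module.compHom W ((RingHom.id S₀).fromOpposite mul_comm)
  haveI : IsCentralScalar S₀ W := ⟨fun _ _ => rfl⟩
  have he1 : e 1 = 0 := by simpa using he_mul 1 1
  let ι : R →+* TrivSqZeroExt S₀ W :=
    { toFun := fun r => TrivSqZeroExt.inl (algebraMap R S₀ r) + TrivSqZeroExt.inr (e r)
      map_one' := by ext : 1 <;> simp [he1]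
      map_mul' := fun r r' => by ext : 1 <;> simp [he_mul, op_smul_eq_smul, S₀]
      map_zero' := by ext : 1 <;> simp
      map_add' := fun r r' => by ext : 1 <;> simp [S₀] }
  let z : TrivSqZeroExt S₀ W := TrivSqZeroExt.inl (AdjoinRoot.root _) + TrivSqZeroExt.inr w
  have hpS : (p : S₀) = 0 := by
    rw [← map_natCast (algebraMap R S₀), CharP.cast_eq_zero, map_zero]
  have hroot : AdjoinRoot.root (X ^ p - C a : R[X]) ^ p = algebraMap R S₀ a := by
    have := AdjoinRoot.eval₂_root (X ^ p - C a : R[X])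
    rwa [eval₂_sub, eval₂_X_pow, eval₂_C, sub_eq_zero] at this
  have hz0 : eval₂ ι z (X ^ p - C a) = 0 := by
    rw [eval₂_sub, eval₂_X_pow, eval₂_C, sub_eq_zero]
    ext : 1
    · simp [z, ι, hroot, S₀]
    · rw [TrivSqZeroExt.snd_pow]
      simp only [z, ι, RingHom.coe_mk, MonoidHom.coe_mk, OneHom.coe_mk, TrivSqZeroExt.snd_add,
        TrivSqZeroExt.snd_inl, TrivSqZeroExt.snd_inr, zero_add, hea]
      rw [← Nat.cast_smul_eq_nsmul S₀, hpS, zero_smul]
  let F : S₀ →+* TrivSqZeroExt S₀ W := AdjoinRoot.lift ι z hz0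
  have hfst : ∀ s, (F s).fst = s := fun s => by
    induction s using AdjoinRoot.induction_on with
    | ih g =>
      induction g using Polynomial.induction_on' with
      | add g g' h h' => rw [map_add, map_add, TrivSqZeroExt.fst_add, h, h']
      | monomial n r =>
        rw [← C_mul_X_pow_eq_monomial, map_mul, map_pow, AdjoinRoot.mk_C, AdjoinRoot.mk_X, map_mul,
          map_pow, TrivSqZeroExt.fst_mul, TrivSqZeroExt.fst_pow]
        simp [F, z, ι, AdjoinRoot.algebraMap_eq, S₀]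
  have hF : ∀ r : R, (F (algebraMap R S₀ r)).snd = e r := fun r => by
    simp [F, ι, AdjoinRoot.algebraMap_eq, S₀]
  let d : S₀ →ₗ[Λ] W :=
    { toFun := fun s => (F s).snd
      map_add' := fun s t => by simp
      map_smul' := fun l s => by
        have hl : (F (algebraMap Λ S₀ l)).snd = 0 := by
          rw [IsScalarTower.algebraMap_apply Λ R S₀, hF, heΛ]
        simp [Algebra.smul_def l s, TrivSqZeroExt.snd_mul, hfst, hl, op_smul_eq_smul,
          algebraMap_smul] }
  refine ⟨Derivation.mk' d fun s t => ?_, fun r => hF r, ?_⟩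
  · show (F (s * t)).snd = s • (F t).snd + t • (F s).snd
    simp [TrivSqZeroExt.snd_mul, hfst, op_smul_eq_smul]
  · show (F (AdjoinRoot.root _)).snd = _
    simp [F, z, S₀]

section general

variable {Λ R : Type u} [CommRing Λ] [CommRing R] [Algebra Λ R] (a : R)
variable {S : Type u} [CommRing S] [Algebra R S] [Algebra Λ S] [IsScalarTower Λ R S] (x : S)
  (hgen : Algebra.adjoin R {x} = ⊤)
  (hder : ∀ (W : Type u) [AddCommGroup W] [Module S W] [Module Λ W] [IsScalarTower Λ S W] (e : R →+ W)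
    (_ : ∀ r r', e (r * r') = algebraMap R S r • e r' + algebraMap R S r' • e r)
    (_ : ∀ l : Λ, e (algebraMap Λ R l) = 0) (_ : e a = 0) (w : W),
    ∃ δ : Derivation Λ S W, (∀ r : R, δ (algebraMap R S r) = e r) ∧ δ x = w)

include hgen hder

set_option maxHeartbeats 1600000 in
/-- The operators of differential forms. -/
theorem exists_operator :
    ∃ Φ : Ω[S⁄Λ] →ₗ[S] Module.End S (V (Λ := Λ) a S),
      (∀ ω, Φ ω * Φ ω = 0) ∧
      (∀ v : Ω[R⁄Λ], Φ (KaehlerDifferential.map Λ Λ R S v) = O a S (1 ⊗ₜ v, 0)) ∧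
      Φ (KaehlerDifferential.D Λ S x) = O a S (0, 1) := by
  let i : Ω[R⁄Λ] →ₗ[R] (S ⊗[R] Ω[R⁄Λ]) × S :=
    LinearMap.inl R _ _ ∘ₗ TensorProduct.mk R S Ω[R⁄Λ] 1
  let E : Ω[R⁄Λ] →+ Module.End S (V (Λ := Λ) a S) := (O a S).toAddMonoidHom.comp i.toAddMonoidHom
  have hE : ∀ (r : R) (v : Ω[R⁄Λ]), E (r • v) = algebraMap R S r • E v := fun r v => by
    show O a S (i (r • v)) = algebraMap R S r • O a S (i v)
    rw [map_smul, ← map_smul (O a S), algebraMap_smul]
  obtain ⟨δ, hδR, hδx⟩ := hder (Module.End S (V (Λ := Λ) a S))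
    (E.comp (KaehlerDifferential.D Λ R).toLinearMap.toAddMonoidHom)
    (fun r r' => by
      show E (KaehlerDifferential.D Λ R (r * r')) = _
      rw [Derivation.leibniz, map_add, hE, hE]; rfl)
    (fun l => by
      show E (KaehlerDifferential.D Λ R _) = _
      rw [Derivation.map_algebraMap, map_zero])
    (LinearMap.ext fun y => by simp [E, i, O_apply, muS_tmul, mu_D])
    (O a S (0, 1))
  let Φ : Ω[S⁄Λ] →ₗ[S] Module.End S (V (Λ := Λ) a S) :=
    Derivation.liftKaehlerDifferential (M := Module.End S (V (Λ := Λ) a S)) δ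
  have hrange : ∀ s, δ s ∈ LinearMap.range (O (Λ := Λ) a S) := fun s => by
    have hs : s ∈ Algebra.adjoin R {x} := hgen ▸ Algebra.mem_top
    induction hs using Algebra.adjoin_induction with
    | mem y hy => rw [Set.mem_singleton_iff.1 hy, hδx]; exact LinearMap.mem_range_self _ _
    | algebraMap r => rw [hδR]; exact LinearMap.mem_range_self _ _
    | add y z _ _ h h' => rw [map_add]; exact add_mem h h'
    | mul y z _ _ h h' =>
      rw [Derivation.leibniz]
      exact add_mem (Submodule.smul_mem _ _ h') (Submodule.smul_mem _ _ h)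
  refine ⟨Φ, fun ω => ?_, fun v => ?_, by rw [Derivation.liftKaehlerDifferential_comp_D]; exact hδx⟩
  · have : Φ ω ∈ LinearMap.range (O (Λ := Λ) a S) := by
      have h : ω ∈ Submodule.span S (Set.range (KaehlerDifferential.D Λ S)) := by
        rw [KaehlerDifferential.span_range_derivation]; trivial
      refine (Submodule.span_le (p := (LinearMap.range (O (Λ := Λ) a S)).comap Φ)).2 ?_ h
      rintro _ ⟨s, rfl⟩
      show Φ (KaehlerDifferential.D Λ S s) ∈ LinearMap.range (O (Λ := Λ) a S)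
      rw [Derivation.liftKaehlerDifferential_comp_D]
      exact hrange s
    obtain ⟨m, hm⟩ := this
    rw [← hm, O_sq]
  · show Φ _ = E v
    have h : v ∈ Submodule.span R (Set.range (KaehlerDifferential.D Λ R)) := by
      rw [KaehlerDifferential.span_range_derivation]; trivial
    induction h using Submodule.span_induction with
    | mem _ hx =>
      obtain ⟨r, rfl⟩ := hx
      rw [KaehlerDifferential.map_D, Derivation.liftKaehlerDifferential_comp_D]
      exact hδR r
    | zero => rw [map_zero, map_zero, map_zero]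
    | add y z _ _ hy hz => rw [map_add, map_add, hy, hz, map_add]
    | smul r y _ hy =>
      rw [map_smul, ← algebraMap_smul S r (KaehlerDifferential.map Λ Λ R S y), map_smul, hy, hE]

set_option maxHeartbeats 1600000 in
/-- **The trace of forms along `R → R[x]/(xᵖ - a)`.** -/
theorem exists_trace_gen (p : ℕ) [hp : Fact p.Prime] (co : S →ₗ[R] R)
    (hco : ∀ i < p, co (x ^ i) = if i = p - 1 then 1 else 0) (t : ℕ) :
    ∃ Tr : (⋀[S]^(t + 1) (Ω[S⁄Λ])) →+ (⋀[R]^(t + 1) (Ω[R⁄Λ])),
      (∀ (r : R) (ω : ⋀[S]^(t + 1) (Ω[S⁄Λ])),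
        Tr (algebraMap R S r • ω) = r • Tr ω) ∧
      (∀ (η : Fin t → Ω[R⁄Λ]) (i : ℕ), i + 2 ≤ p →
        Tr (exteriorPower.ιMulti _ (t + 1) (Fin.snoc (fun j => KaehlerDifferential.map Λ Λ R S (η j))
          (x ^ i • KaehlerDifferential.D Λ _ (x)))) = 0) ∧
      (∀ (η : Fin t → Ω[R⁄Λ]),
        Tr (exteriorPower.ιMulti _ (t + 1) (Fin.snoc (fun j => KaehlerDifferential.map Λ Λ R S (η j))
          (x ^ (p - 1) • KaehlerDifferential.D Λ _ (x)))) =
          exteriorPower.ιMulti R (t + 1) (Fin.snoc η (KaehlerDifferential.D Λ R a))) ∧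
      (∀ (s : S) (η : Fin (t + 1) → Ω[R⁄Λ]),
        Tr (s • exteriorPower.ιMulti _ (t + 1) (fun j => KaehlerDifferential.map Λ Λ R S (η j))) = 0) := by
  classical
  obtain ⟨Φ, hsq, hΦR, hΦx⟩ := exists_operator (Λ := Λ) a x hgen hder
  let lA := ExteriorAlgebra.lift S ⟨Φ, hsq⟩
  let u0 : V (Λ := Λ) a S := ((1 : S) ⊗ₜ ⟨ExteriorAlgebra.ι R (KaehlerDifferential.D Λ R a), 1,
    one_mul _⟩, 0)
  let pr : ExteriorAlgebra R (Ω[R⁄Λ]) →ₗ[R] ⋀[R]^(t + 1) (Ω[R⁄Λ]) :=
    ExteriorAlgebra.liftAlternating fun i =>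
      if h : i = t + 1 then (exteriorPower.ιMulti R (t + 1)).domDomCongr (finCongr h.symm) else 0
  let χ : S ⊗[R] L (Λ := Λ) a →ₗ[R] ⋀[R]^(t + 1) (Ω[R⁄Λ]) :=
    (TensorProduct.lid R _).toLinearMap ∘ₗ TensorProduct.map co (pr ∘ₗ (L a).subtype)
  let ev : ExteriorAlgebra S (Ω[S⁄Λ]) →ₗ[S] S ⊗[R] L (Λ := Λ) a :=
    ((-1 : S) ^ t) • (LinearMap.snd S _ _ ∘ₗ LinearMap.applyₗ u0 ∘ₗ lA.toLinearMap)
  let Tr : (⋀[S]^(t + 1) (Ω[S⁄Λ])) →+ (⋀[R]^(t + 1) (Ω[R⁄Λ])) :=
    χ.toAddMonoidHom.comp (ev.comp (Submodule.subtype _)).toAddMonoidHom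
  have hlist : ∀ (n : ℕ) (η : Fin n → Ω[R⁄Λ]) (s : S) (l : L (Λ := Λ) a),
      ∃ l' : L (Λ := Λ) a, (l' : ExteriorAlgebra R (Ω[R⁄Λ])) = ExteriorAlgebra.ιMulti R n η * l ∧
        lA (ExteriorAlgebra.ιMulti S n (fun j => KaehlerDifferential.map Λ Λ R S (η j))) (s ⊗ₜ l, 0) =
          (s ⊗ₜ l', 0) ∧
        lA (ExteriorAlgebra.ιMulti S n (fun j => KaehlerDifferential.map Λ Λ R S (η j))) (0, s ⊗ₜ l) =
          (0, (-1 : S) ^ n • (s ⊗ₜ l')) := by
    intro n
    induction n with
    | zero =>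
      intro η s l
      exact ⟨l, by simp, by simp, by simp⟩
    | succ n ih =>
      intro η s l
      obtain ⟨l', hl', e1, e2⟩ := ih (fun j => η j.succ) s l
      refine ⟨mu a (η 0) l', ?_, ?_, ?_⟩
      · rw [mu_apply, hl', ExteriorAlgebra.ιMulti_succ_apply, mul_assoc]; rfl
      · rw [ExteriorAlgebra.ιMulti_succ_apply, map_mul, ExteriorAlgebra.lift_ι_apply,
          Module.End.mul_apply]
        erw [e1]
        simp [hΦR, O_apply, muS_tmul]
      · rw [ExteriorAlgebra.ιMulti_succ_apply, map_mul, ExteriorAlgebra.lift_ι_apply,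
          Module.End.mul_apply]
        erw [e2]
        simp [hΦR, O_apply, muS_tmul, pow_succ]
        module
  have hmid : ∀ (η : Fin t → Ω[R⁄Λ]) (i : ℕ), i < p →
      Tr (exteriorPower.ιMulti _ (t + 1) (Fin.snoc (fun j => KaehlerDifferential.map Λ Λ R S (η j))
        (x ^ i • KaehlerDifferential.D Λ _ (x)))) =
      (if i = p - 1 then (1 : R) else 0) •
        exteriorPower.ιMulti R (t + 1) (Fin.snoc η (KaehlerDifferential.D Λ R a)) := by
    intro η i hi
    obtain ⟨l', hl', -, e2⟩ := hlist t η (1 : S)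
      ⟨ExteriorAlgebra.ι R (KaehlerDifferential.D Λ R a), 1, one_mul _⟩
    have hsplit : ∀ {A : Type u} [CommRing A] {M : Type u} [AddCommGroup M] [Module A M]
        (v : Fin t → M) (w : M),
        ExteriorAlgebra.ιMulti A (t + 1) (Fin.snoc v w) =
          ExteriorAlgebra.ιMulti A t v * ExteriorAlgebra.ι A w := by
      intro A _ M _ _ v w
      rw [ExteriorAlgebra.ιMulti_apply, ExteriorAlgebra.ιMulti_apply, List.ofFn_succ', List.concat_eq_append,
        List.prod_append, List.prod_singleton]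
      simp
    show χ (ev _) = _
    simp only [ev, LinearMap.comp_apply, LinearMap.smul_apply, Submodule.subtype_apply,
      exteriorPower.ιMulti_apply_coe, AlgHom.toLinearMap_apply, LinearMap.applyₗ_apply_apply, hsplit,
      map_mul, lA, ExteriorAlgebra.lift_ι_apply, Module.End.mul_apply, map_smul, hΦx, LinearMap.smul_apply]
    simp only [O_apply, u0, map_zero, LinearMap.zero_apply, neg_zero, zero_add, one_smul,
      Prod.smul_mk, smul_zero, TensorProduct.smul_tmul', smul_eq_mul, mul_one]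
    erw [e2]
    have hs : (-1 : S) ^ t • x ^ i • (-1 : S) ^ t • ((1 : S) ⊗ₜ[R] l') = (x ^ i) ⊗ₜ[R] l' := by
      rw [smul_smul, smul_smul, mul_comm ((-1 : S) ^ t) (x ^ i), mul_assoc, ← mul_pow, neg_one_mul,
        neg_neg, one_pow, mul_one, TensorProduct.smul_tmul', smul_eq_mul, mul_one]
    simp only [LinearMap.snd_apply, hs, χ,
      LinearMap.comp_apply, LinearEquiv.coe_coe, TensorProduct.map_tmul, TensorProduct.lid_tmul,
      Submodule.subtype_apply, hl']
    congr 1
    · exact hco i hi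
    · rw [← hsplit]
      simp only [pr]
      rw [ExteriorAlgebra.liftAlternating_apply_ιMulti, dif_pos rfl]
      rfl
  refine ⟨Tr, fun r ω => ?_, fun η i hi => ?_, fun η => ?_, fun s η => ?_⟩
  · show χ (ev _) = r • χ (ev _)
    simp only [LinearMap.comp_apply, map_smul, Submodule.subtype_apply]
    rw [algebraMap_smul, map_smul]
  · rw [hmid η i (by omega), if_neg (by omega), zero_smul]
  · rw [hmid η (p - 1) (Nat.sub_lt hp.out.pos one_pos), if_pos rfl, one_smul]
  · obtain ⟨l', -, e1, -⟩ := hlist (t + 1) η 1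
      ⟨ExteriorAlgebra.ι R (KaehlerDifferential.D Λ R a), 1, one_mul _⟩
    show χ (ev _) = 0
    simp only [ev, LinearMap.comp_apply, LinearMap.smul_apply, Submodule.subtype_apply, SetLike.val_smul,
      exteriorPower.ιMulti_apply_coe, AlgHom.toLinearMap_apply, LinearMap.applyₗ_apply_apply, map_smul]
    erw [e1]
    simp

end general

theorem exists_trace (p : ℕ) [hp : Fact p.Prime] {Λ R : Type u} [CommRing Λ] [CommRing R]
    [Algebra Λ R] [CharP R p] (a : R) (t : ℕ) :
    ∃ Tr : (⋀[AdjoinRoot (X ^ p - C a : R[X])]^(t + 1) (Ω[AdjoinRoot (X ^ p - C a : R[X])⁄Λ])) →+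
        (⋀[R]^(t + 1) (Ω[R⁄Λ])),
      (∀ (r : R) (ω : ⋀[AdjoinRoot (X ^ p - C a : R[X])]^(t + 1) (Ω[AdjoinRoot (X ^ p - C a : R[X])⁄Λ])),
        Tr (algebraMap R (AdjoinRoot (X ^ p - C a : R[X])) r • ω) = r • Tr ω) ∧
      (∀ (η : Fin t → Ω[R⁄Λ]) (i : ℕ), i + 2 ≤ p →
        Tr (exteriorPower.ιMulti _ (t + 1) (Fin.snoc (fun j => KaehlerDifferential.map Λ Λ R (AdjoinRoot (X ^ p - C a : R[X])) (η j))
          (AdjoinRoot.root (X ^ p - C a) ^ i • KaehlerDifferential.D Λ _ (AdjoinRoot.root (X ^ p - C a))))) = 0) ∧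
      (∀ (η : Fin t → Ω[R⁄Λ]),
        Tr (exteriorPower.ιMulti _ (t + 1) (Fin.snoc (fun j => KaehlerDifferential.map Λ Λ R (AdjoinRoot (X ^ p - C a : R[X])) (η j))
          (AdjoinRoot.root (X ^ p - C a) ^ (p - 1) • KaehlerDifferential.D Λ _ (AdjoinRoot.root (X ^ p - C a))))) =
          exteriorPower.ιMulti R (t + 1) (Fin.snoc η (KaehlerDifferential.D Λ R a))) ∧
      (∀ (s : AdjoinRoot (X ^ p - C a : R[X])) (η : Fin (t + 1) → Ω[R⁄Λ]),
        Tr (s • exteriorPower.ιMulti _ (t + 1) (fun j => KaehlerDifferential.map Λ Λ R (AdjoinRoot (X ^ p - C a : R[X])) (η j))) = 0) := by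
  haveI : Nontrivial R := CharP.nontrivial_of_char_ne_one (hp.out.ne_one)
  have hmon : Monic (X ^ p - C a : R[X]) := monic_X_pow_sub_C a hp.out.ne_zero
  refine exists_trace_gen a (AdjoinRoot.root (X ^ p - C a)) AdjoinRoot.adjoinRoot_eq_top ?_ p
    ((Polynomial.lcoeff R (p - 1)).comp (AdjoinRoot.modByMonicHom hmon)) (fun i hi => ?_) t
  · intro W _ _ _ _ e h1 h2 h3 w
    exact exists_derivation p a e h1 h2 h3 w
  · rw [show AdjoinRoot.root (X ^ p - C a) ^ i = AdjoinRoot.mk (X ^ p - C a) (X ^ i) by simp]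
    simp only [LinearMap.comp_apply, Polynomial.lcoeff_apply, AdjoinRoot.modByMonicHom_mk]
    rw [(Polynomial.modByMonic_eq_self_iff hmon).2 (by
      rw [degree_X_pow, degree_X_pow_sub_C hp.out.pos]; exact_mod_cast hi), coeff_X_pow]
    simp only [eq_comm]

end GrothLib.FormTr
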